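import Cfsg.Agent.Lib.Spor.Fi22.PermData
import Cfsg.Agent.Lib.Spor.Fi22.ThirteenData

/-!
Checks on the two elements of order thirteen.
-/

namespace CfsgLib.Spor.Fi22

open CfsgLib.PresCert

theorem thirteen_u : allBelow 3510 (fun i =>
    Nat.beq (Perm.data.app [4, 8, 7, 3, 4, 7, 5, 2, 6, 3, 4, 7, 5, 1, 2] i) (thirteenData.img 0 i) &&
      Nat.beq (Perm.data.app [0] (thirteenData.img 0 i)) (thirteenData.img 1 i)) = true := by
  decide +kernel

theorem thirteen_pow : allBelow 3510 (fun i =>
    Nat.beq (thirteenData.app (List.replicate 13 0) i) i &&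
      Nat.beq (thirteenData.app (List.replicate 13 1) i) i) = true := by
  decide +kernel

end CfsgLib.Spor.Fi22
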