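import Cfsg.Agent.Lib.Spor.Fi22.Orbits
import Cfsg.Agent.Lib.Spor.Fi22.Thirteen
import Cfsg.Agent.Lib.PresCert.Simple
import Cfsg.Prelude.Def_Sporadic

/-!
The presented Fischer group Fi22 is simple.
-/

namespace CfsgLib.Spor.Fi22

open CfsgLib.PresCert Cfsg.Spor

theorem cox {x y : Fi22.Gen} : (gen x * gen y) ^ coxLabel Fi22.edges x y = 1 :=
  pgen_cox (mem_nodes x) (mem_nodes y)

theorem word_one (w : List Fi22.Gen) (h : w ∈ extraW) : (w.map gen).prod = 1 :=
  gen_known w (List.mem_append_right _ h)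

/-- A normal subgroup containing `a` is everything. -/
theorem eq_top_of_a_mem (N : Subgroup Cfsg.Spor.Fi22) (hN : N.Normal) (ha : gen .a ∈ N) :
    N = ⊤ := by
  haveI := hN
  let q : Cfsg.Spor.Fi22 →* Cfsg.Spor.Fi22 ⧸ N := QuotientGroup.mk' N
  have hsq : ∀ x, q (gen x) * q (gen x) = 1 := fun x => by rw [← map_mul, gen_sq, map_one]
  -- joined by an odd edge: one is trivial if the other is
  have odd : ∀ x y : Fi22.Gen, coxLabel Fi22.edges x y = 2 * 1 + 1 → q (gen x) = 1 →
      q (gen y) = 1 := by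
    intro x y hm hx
    have h := congrArg q (cox (x := x) (y := y))
    rw [map_pow, map_mul, map_one, hx, one_mul, hm, pow_succ, pow_mul, pow_two, hsq, one_pow,
      one_mul] at h
    exact h
  have qa : q (gen .a) = 1 := (QuotientGroup.eq_one_iff _).2 ha
  have qb := odd .a .b (by decide) qa
  have qc := odd .b .c (by decide) qb
  have qd := odd .c .d (by decide) qc
  have qe := odd .d .e (by decide) qd
  have qh := odd .d .h (by decide) qd
  have qf := odd .e .f (by decide) qe
  have qg := odd .f .g (by decide) qf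
  have qi := odd .h .i (by decide) qh
  have hall : ∀ x, gen x ∈ N := by
    intro x
    refine (QuotientGroup.eq_one_iff _).1 ?_
    cases x
    exacts [qa, qb, qc, qd, qe, qf, qg, qh, qi]
  rw [eq_top_iff, ← top_eq_lettersGroup (edges := Fi22.edges) (extra := Fi22.extra) allGens
    mem_allGens, lettersGroup, Subgroup.closure_le]
  rintro _ ⟨x, -, rfl⟩
  exact hall x

theorem exists_gen (k : ℕ) (hk : k < Perm.data.g) : ∃ x, idx x = k := by
  have hk' : k < 9 := hk
  interval_cases k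
  exacts [⟨.a, rfl⟩, ⟨.b, rfl⟩, ⟨.c, rfl⟩, ⟨.d, rfl⟩, ⟨.e, rfl⟩, ⟨.f, rfl⟩, ⟨.g, rfl⟩, ⟨.h, rfl⟩, ⟨.i, rfl⟩]

theorem π_injective : Function.Injective π := by
  haveI := finite
  have hlow : Nat.card Cfsg.Spor.Fi22 ≤ Nat.card π.range := by
    have h := PermData.le_card_of_hom (D := Perm.data) (⊤ : Subgroup π.range) π.range.subtype
      (fun k hk => ?_) words_ok Perm.levels levels_ok
    · have e : (Perm.levels.map Level.len).prod = 64561751654400 := by decide +kernel
      rw [e, Subgroup.card_top] at h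
      rw [natCard]
      exact h
    · obtain ⟨x, hx⟩ := exists_gen k hk
      exact ⟨π.rangeRestrict (gen x), trivial, fun i => hx ▸ π_gen x i⟩
  exact (Subtype.val_injective).comp ((Nat.bijective_iff_surjective_and_card π.rangeRestrict).2
    ⟨π.rangeRestrict_surjective, le_antisymm hlow
      (Nat.card_le_card_of_surjective _ π.rangeRestrict_surjective)⟩).1

/-- an element of order thirteen -/
noncomputable def u : Cfsg.Spor.Fi22 := ([Fi22.Gen.c, .b, .f, .h, .e, .d, .g, .c, .f, .h, .e, .d, .h, .i, .e].map gen).prod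

theorem π_u (i : Fin Perm.data.n) :
    ((π u i : Fin Perm.data.n) : ℕ) = thirteenData.img 0 i := by
  rw [u, π_word]
  have h := allBelow_spec thirteen_u i i.2
  simp only [Bool.and_eq_true, Nat.beq_eq] at h
  exact h.1

theorem π_au (i : Fin Perm.data.n) :
    ((π (gen .a * u) i : Fin Perm.data.n) : ℕ) = thirteenData.img 1 i := by
  rw [map_mul, Equiv.Perm.mul_apply, π_gen, π_u]
  have h := allBelow_spec thirteen_u i i.2
  simp only [Bool.and_eq_true, Nat.beq_eq] at h
  exact h.2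

theorem pow_thirteen (y : Cfsg.Spor.Fi22) (k : ℕ)
    (hy : ∀ i : Fin Perm.data.n, ((π y i : Fin Perm.data.n) : ℕ) = thirteenData.img k i)
    (hk : ∀ i < Perm.data.n, thirteenData.app (List.replicate 13 k) i = i) : y ^ 13 = 1 := by
  refine π_injective ?_
  rw [map_pow, map_one]
  refine Equiv.ext fun i => Fin.ext ?_
  have key : ∀ (m : ℕ) (i : Fin Perm.data.n),
      (((π y ^ m) i : Fin Perm.data.n) : ℕ) = thirteenData.app (List.replicate m k) i := by
    intro m
    induction m with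
    | zero => intro i; rfl
    | succ m ih =>
      intro i
      rw [pow_succ, Equiv.Perm.mul_apply, ih, hy]
      rfl
  rw [key, hk i i.2]
  rfl

theorem invariant_sets (S : Set (Fin Perm.data.n)) (h0 : i₀ ∈ S)
    (hH : ∀ h ∈ H, ∀ i ∈ S, π h i ∈ S) (hd : S.ncard ∣ Perm.data.n) :
    S = {i₀} ∨ S = Set.univ := by
  have hn : Perm.data.n = 3510 := rfl
  obtain ⟨a1, a2, a3, a4⟩ := sub0_ok
  obtain ⟨b1, b2, b3, b4⟩ := sub1_ok
  obtain ⟨hbA, eA⟩ := orbit_set _ a1 a2 a4
  obtain ⟨hbB, eB⟩ := orbit_set _ b1 b2 b4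
  rw [a3] at eA
  rw [b3] at eB
  have hA0 : HPerm.sub0.base ≠ 0 := by decide +kernel
  have hB0 : HPerm.sub1.base ≠ 0 := by decide +kernel
  let O : Fin Perm.data.n → Set (Fin Perm.data.n) := fun b => {i | ∃ h ∈ H, π h b = i}
  have hi0 : ∀ b : Fin Perm.data.n, (b : ℕ) ≠ 0 → i₀ ∉ O b := by
    rintro b hb ⟨h, hh, he⟩
    have h' := congrArg (fun z => π h⁻¹ z) he
    rw [← Equiv.Perm.mul_apply, ← map_mul, inv_mul_cancel, map_one, Equiv.Perm.one_apply,
      H_fix _ (H.inv_mem hh)] at h'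
    exact hb (congrArg Fin.val h')
  have hmove : ∀ b i j, i ∈ O b → j ∈ O b → ∃ h ∈ H, π h i = j := by
    rintro b _ _ ⟨h, hh, rfl⟩ ⟨h', hh', rfl⟩
    refine ⟨h' * h⁻¹, H.mul_mem hh' (H.inv_mem hh), ?_⟩
    rw [← Equiv.Perm.mul_apply, ← map_mul, inv_mul_cancel_right]
  let A := O ⟨_, hbA⟩
  let B := O ⟨_, hbB⟩
  have hA : A.ncard = 2816 := eA
  have hB : B.ncard = 693 := eB
  have hdis : Disjoint A B := by
    rw [Set.disjoint_left]
    intro i hiA hiB
    have heq : A = B := by
      apply subset_antisymm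
      · intro j hj
        obtain ⟨h, hh, rfl⟩ := hmove _ i j hiA hj
        obtain ⟨h', hh', rfl⟩ := hiB
        exact ⟨h * h', H.mul_mem hh hh', by rw [map_mul, Equiv.Perm.mul_apply]⟩
      · intro j hj
        obtain ⟨h, hh, rfl⟩ := hmove _ i j hiB hj
        obtain ⟨h', hh', rfl⟩ := hiA
        exact ⟨h * h', H.mul_mem hh hh', by rw [map_mul, Equiv.Perm.mul_apply]⟩
    rw [heq, hB] at hA
    omega
  have dA : Disjoint ({i₀} : Set (Fin Perm.data.n)) A :=
    Set.disjoint_singleton_left.2 (hi0 _ hA0)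
  have dB : Disjoint ({i₀} : Set (Fin Perm.data.n)) B :=
    Set.disjoint_singleton_left.2 (hi0 _ hB0)
  have hcover : ({i₀} ∪ A ∪ B : Set (Fin Perm.data.n)) = Set.univ := by
    refine Set.eq_of_subset_of_ncard_le (Set.subset_univ _) ?_
    rw [Set.ncard_univ, Nat.card_fin, Set.ncard_union_eq (Set.disjoint_union_left.2 ⟨dB, hdis⟩),
      Set.ncard_union_eq dA, Set.ncard_singleton, hA, hB]
    omega
  have hin : ∀ b i, i ∈ O b → i ∈ S → O b ⊆ S := by
    intro b i hi hiS j hj
    obtain ⟨h, hh, rfl⟩ := hmove b i j hi hj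
    exact hH h hh i hiS
  have hd' : S.ncard ∣ 3510 := hd.trans (dvd_of_eq hn)
  have hsplit : ∀ j ∈ S, j = i₀ ∨ j ∈ A ∨ j ∈ B := by
    intro j _
    rcases (hcover ▸ Set.mem_univ j : j ∈ ({i₀} ∪ A ∪ B : Set _)) with (h | h) | h
    exacts [Or.inl h, Or.inr (Or.inl h), Or.inr (Or.inr h)]
  by_cases hSA : ∃ i ∈ A, i ∈ S <;> by_cases hSB : ∃ i ∈ B, i ∈ S
  · right
    obtain ⟨i, hi, hiS⟩ := hSA
    obtain ⟨j, hj, hjS⟩ := hSB
    exact eq_top_iff.2 (hcover.ge.trans (Set.union_subset
      (Set.union_subset (Set.singleton_subset_iff.2 h0) (hin _ i hi hiS)) (hin _ j hj hjS)))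
  · exfalso
    obtain ⟨i, hi, hiS⟩ := hSA
    have h1 : S = {i₀} ∪ A := by
      refine subset_antisymm (fun j hj => ?_)
        (Set.union_subset (Set.singleton_subset_iff.2 h0) (hin _ i hi hiS))
      rcases hsplit j hj with h | h | h
      exacts [Or.inl h, Or.inr h, absurd ⟨j, h, hj⟩ hSB]
    rw [h1, Set.ncard_union_eq dA, Set.ncard_singleton, hA] at hd'
    norm_num at hd'
  · exfalso
    obtain ⟨i, hi, hiS⟩ := hSB
    have h1 : S = {i₀} ∪ B := by
      refine subset_antisymm (fun j hj => ?_)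
        (Set.union_subset (Set.singleton_subset_iff.2 h0) (hin _ i hi hiS))
      rcases hsplit j hj with h | h | h
      exacts [Or.inl h, absurd ⟨j, h, hj⟩ hSA, Or.inr h]
    rw [h1, Set.ncard_union_eq dB, Set.ncard_singleton, hB] at hd'
    norm_num at hd'
  · left
    refine Set.eq_singleton_iff_unique_mem.2 ⟨h0, fun j hj => ?_⟩
    rcases hsplit j hj with h | h | h
    exacts [h, absurd ⟨j, h, hj⟩ hSA, absurd ⟨j, h, hj⟩ hSB]

/-- The presented Fischer group Fi22 is simple. -/
theorem isFi22 : Cfsg.IsFi22 Cfsg.Spor.Fi22 := by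
  haveI := finite
  haveI : Nontrivial Cfsg.Spor.Fi22 :=
    Finite.one_lt_card_iff_nontrivial.1 (by rw [natCard]; norm_num)
  haveI : Fact (Nat.Prime 13) := ⟨by norm_num⟩
  refine ⟨isSimpleGroup_of_pElements 13 (by rw [natCard]; norm_num) (fun N hN hne => ?_) u
    (gen .a * u) (pow_thirteen u 0 π_u ?_) (pow_thirteen _ 1 π_au ?_) (fun N hN h => ?_), natCard⟩
  · have h := dvd_card_normal π π_injective i₀ H H_fix index_H transitive invariant_sets N hN hne
    exact dvd_trans (by rw [show Perm.data.n = 3510 from rfl]; norm_num) h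
  · intro i hi
    have h := allBelow_spec thirteen_pow i hi
    simp only [Bool.and_eq_true, Nat.beq_eq] at h
    exact h.1
  · intro i hi
    have h := allBelow_spec thirteen_pow i hi
    simp only [Bool.and_eq_true, Nat.beq_eq] at h
    exact h.2
  · exact eq_top_of_a_mem N hN (by simpa using h)

end CfsgLib.Spor.Fi22
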