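import Cfsg.Agent.Lib.Spor.Fi22.U62.Cover

/-!
The class of transpositions of the presented Fischer group.
-/

set_option autoImplicit false

namespace CfsgLib.Spor.Fi22.Transp

open CfsgLib.PresCert Cfsg.Spor

theorem orderOf_ga : orderOf ga = 2 := orderOf_eq_prime (by rw [pow_two]; exact ga_sq) ga_ne_one

theorem mem_class {d : Cfsg.Spor.Fi22} : d ∈ conjugatesOf ga ↔ ∃ g, g * ga * g⁻¹ = d :=
  isConj_iff

theorem orderOf_mem {d : Cfsg.Spor.Fi22} (hd : d ∈ conjugatesOf ga) : orderOf d = 2 := by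
  obtain ⟨g, rfl⟩ := mem_class.1 hd
  rw [show g * ga * g⁻¹ = MulAut.conj g ga from rfl, MulEquiv.orderOf_eq, orderOf_ga]

theorem three_step {t : Cfsg.Spor.Fi22} (ht : t * t = 1)
    (h : t * ga = ga * t ∨ t * ga * t = ga * t * ga) :
    (t * ga) ^ 2 = 1 ∨ (t * ga) ^ 3 = 1 := by
  rcases h with h | h
  · left
    calc (t * ga) ^ 2 = t * ga * (t * ga) := pow_two _
      _ = ga * t * (t * ga) := by rw [h]
      _ = ga * (t * t) * ga := by group
      _ = 1 := by rw [ht, mul_one, ga_sq]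
  · right
    calc (t * ga) ^ 3 = t * ga * t * (ga * t * ga) := by
          rw [pow_succ, pow_succ, pow_one]; group
      _ = ga * t * ga * (ga * t * ga) := by rw [h]
      _ = ga * t * (ga * ga) * t * ga := by group
      _ = ga * (t * t) * ga := by rw [ga_sq]; group
      _ = 1 := by rw [ht, mul_one, ga_sq]

theorem isThreeTranspositionSet : Cfsg.IsThreeTranspositionSet (conjugatesOf ga) := by
  refine ⟨fun d hd => orderOf_mem hd, fun d hd e he => ?_⟩
  obtain ⟨g, rfl⟩ := mem_class.1 he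
  obtain ⟨h, rfl⟩ := mem_class.1 hd
  have key : h * ga * h⁻¹ * (g * ga * g⁻¹) =
      MulAut.conj g ((g⁻¹ * h) * ga * (g⁻¹ * h)⁻¹ * ga) := by
    rw [MulAut.conj_apply]; group
  have ht : (g⁻¹ * h) * ga * (g⁻¹ * h)⁻¹ * ((g⁻¹ * h) * ga * (g⁻¹ * h)⁻¹) = 1 := by
    calc _ = (g⁻¹ * h) * (ga * ga) * (g⁻¹ * h)⁻¹ := by group
      _ = 1 := by rw [ga_sq]; group
  rw [key, ← map_pow, ← map_pow]
  rcases three_step ht (comm_or_braid _) with e | e
  · exact Or.inl (by rw [e, map_one])
  · exact Or.inr (by rw [e, map_one])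

theorem closure_class : Subgroup.closure (conjugatesOf ga) = ⊤ := by
  have e : Subgroup.normalClosure {ga} = Subgroup.closure (conjugatesOf ga) := by
    rw [Subgroup.normalClosure, Group.conjugatesOfSet]
    simp
  rw [← e]
  exact eq_top_of_a_mem _ inferInstance (Subgroup.subset_normalClosure rfl)

theorem isThreeTranspositionClass : Cfsg.IsThreeTranspositionClass (conjugatesOf ga) :=
  ⟨isThreeTranspositionSet, ⟨ga, mem_conjugatesOf_self, rfl⟩, closure_class⟩

theorem card_class : Nat.card (conjugatesOf ga) = 3510 := by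
  haveI := finite
  let f : Cfsg.Spor.Fi22 ⧸ H → conjugatesOf ga :=
    Quotient.lift (fun g => ⟨g * ga * g⁻¹, mem_class.2 ⟨g, rfl⟩⟩) fun u v huv => by
      replace huv : (QuotientGroup.leftRel H) u v := huv
      rw [QuotientGroup.leftRel_apply] at huv
      have hc := Subgroup.mem_centralizer_singleton_iff.1 (H_le_centralizer huv)
      refine Subtype.ext ?_
      calc u * ga * u⁻¹ = u * (ga * (u⁻¹ * v)) * v⁻¹ := by group
        _ = u * (u⁻¹ * v * ga) * v⁻¹ := by rw [hc]
        _ = v * ga * v⁻¹ := by group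
  have hf : Function.Bijective f := by
    constructor
    · intro p q hpq
      induction p using QuotientGroup.induction_on with | _ u => ?_
      induction q using QuotientGroup.induction_on with | _ v => ?_
      have e : u * ga * u⁻¹ = v * ga * v⁻¹ := congrArg Subtype.val hpq
      rw [QuotientGroup.eq, ← centralizer_eq, Subgroup.mem_centralizer_singleton_iff]
      calc u⁻¹ * v * ga = u⁻¹ * (v * ga * v⁻¹) * v := by group
        _ = u⁻¹ * (u * ga * u⁻¹) * v := by rw [e]
        _ = ga * (u⁻¹ * v) := by group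
    · rintro ⟨d, hd⟩
      obtain ⟨g, rfl⟩ := mem_class.1 hd
      exact ⟨(g : Cfsg.Spor.Fi22 ⧸ H), rfl⟩
  rw [← Nat.card_congr (Equiv.ofBijective f hf), ← Subgroup.index_eq_card, index_H]

/-- transport of a non-split double cover along an isomorphism -/
theorem cover_congr {A B P : Type*} [Group A] [Group B] [Group P] (e : A ≃* B)
    (h : Cfsg.IsNonsplitDoubleCover A P) : Cfsg.IsNonsplitDoubleCover B P := by
  obtain ⟨h1, ⟨q⟩, h3⟩ := h
  have hc : (Subgroup.center A).map e.toMonoidHom = Subgroup.center B := by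
    ext y
    simp only [Subgroup.mem_map, Subgroup.mem_center_iff]
    constructor
    · rintro ⟨x, hx, rfl⟩ z
      obtain ⟨w, rfl⟩ := e.surjective z
      simp [← map_mul, hx w]
    · intro hy
      refine ⟨e.symm y, fun w => e.injective ?_, by simp⟩
      simp [hy (e w)]
  refine ⟨?_, ⟨(QuotientGroup.congr _ _ e hc).symm.trans q⟩, fun L hL => ?_⟩
  · rw [← hc, ← h1]
    exact Subgroup.card_map_of_injective e.injective
  · refine h3 (L.comap e.toMonoidHom) ?_
    have hb : Function.Bijective (fun x : Subgroup.center B × L => (x.1 : B) * x.2) := hL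
    show Function.Bijective (fun x : Subgroup.center A × L.comap e.toMonoidHom => (x.1 : A) * x.2)
    constructor
    · rintro ⟨⟨x, hx⟩, ⟨y, hy⟩⟩ ⟨⟨x', hx'⟩, ⟨y', hy'⟩⟩ hxy
      have hm : ∀ {z : A}, z ∈ Subgroup.center A → e z ∈ Subgroup.center B := fun {z} hz =>
        hc ▸ ⟨z, hz, rfl⟩
      have := @hb.1 (⟨e x, hm hx⟩, ⟨e y, hy⟩) (⟨e x', hm hx'⟩, ⟨e y', hy'⟩)
        (by simpa using congrArg e hxy)
      obtain rfl : x = x' := e.injective (congrArg (fun p => (p.1 : B)) this)
      obtain rfl : y = y' := e.injective (congrArg (fun p => (p.2 : B)) this)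
      rfl
    · intro a
      obtain ⟨⟨⟨x, hx⟩, ⟨y, hy⟩⟩, hxy⟩ := hb.2 (e a)
      rw [← hc] at hx
      obtain ⟨x₀, hx₀, rfl⟩ := hx
      obtain ⟨y₀, rfl⟩ := e.surjective y
      exact ⟨⟨⟨x₀, hx₀⟩, ⟨y₀, hy⟩⟩, e.injective (by simpa using hxy)⟩

theorem centralizer_cover (d : Cfsg.Spor.Fi22) (hd : d ∈ conjugatesOf ga) :
    Cfsg.IsNonsplitDoubleCover (Subgroup.centralizer ({d} : Set Cfsg.Spor.Fi22))
      (Cfsg.PSU 6 QField 2) := by
  obtain ⟨g, rfl⟩ := mem_class.1 hd
  refine cover_congr (((MulAut.conj g).subgroupMap H).trans (MulEquiv.subgroupCongr ?_))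
    U62.isNonsplitDoubleCover
  rw [← centralizer_eq]
  ext y
  simp only [Subgroup.mem_map, Subgroup.mem_centralizer_singleton_iff,
    MonoidHom.coe_coe, MulAut.conj_apply]
  constructor
  · rintro ⟨x, hx, rfl⟩
    calc g * x * g⁻¹ * (g * ga * g⁻¹) = g * (x * ga) * g⁻¹ := by group
      _ = g * (ga * x) * g⁻¹ := by rw [hx]
      _ = g * ga * g⁻¹ * (g * x * g⁻¹) := by group
  · intro hy
    refine ⟨g⁻¹ * y * g, ?_, by group⟩
    calc g⁻¹ * y * g * ga = g⁻¹ * (y * (g * ga * g⁻¹)) * g := by group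
      _ = g⁻¹ * (g * ga * g⁻¹ * y) * g := by rw [hy]
      _ = ga * (g⁻¹ * y * g) := by group

end CfsgLib.Spor.Fi22.Transp
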