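import Cfsg.Agent.Lib.Spor.Fi22.PermData

/-!
The further elements are the products they claim to be.
-/

namespace CfsgLib.Spor.Fi22

open CfsgLib.PresCert

theorem word1_ok : ((Perm.data.words.getD 1 []).all (fun k => Nat.blt k 10) &&
    allBelow Perm.data.n fun i =>
      Nat.beq (Perm.data.app (Perm.data.words.getD 1 []) i) (Perm.data.img 10 i)) = true := by
  decide +kernel

theorem word2_ok : ((Perm.data.words.getD 2 []).all (fun k => Nat.blt k 11) &&
    allBelow Perm.data.n fun i =>
      Nat.beq (Perm.data.app (Perm.data.words.getD 2 []) i) (Perm.data.img 11 i)) = true := by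
  decide +kernel

end CfsgLib.Spor.Fi22
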