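import Cfsg.Agent.Lib.Spor.Fi22.PermData

/-!
The further elements are the products they claim to be.
-/

namespace CfsgLib.Spor.Fi22

open CfsgLib.PresCert

theorem word3_ok : ((Perm.data.words.getD 3 []).all (fun k => Nat.blt k 12) &&
    allBelow Perm.data.n fun i =>
      Nat.beq (Perm.data.app (Perm.data.words.getD 3 []) i) (Perm.data.img 12 i)) = true := by
  decide +kernel

theorem word4_ok : ((Perm.data.words.getD 4 []).all (fun k => Nat.blt k 13) &&
    allBelow Perm.data.n fun i =>
      Nat.beq (Perm.data.app (Perm.data.words.getD 4 []) i) (Perm.data.img 13 i)) = true := by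
  decide +kernel

theorem word5_ok : ((Perm.data.words.getD 5 []).all (fun k => Nat.blt k 14) &&
    allBelow Perm.data.n fun i =>
      Nat.beq (Perm.data.app (Perm.data.words.getD 5 []) i) (Perm.data.img 14 i)) = true := by
  decide +kernel

theorem word6_ok : ((Perm.data.words.getD 6 []).all (fun k => Nat.blt k 15) &&
    allBelow Perm.data.n fun i =>
      Nat.beq (Perm.data.app (Perm.data.words.getD 6 []) i) (Perm.data.img 15 i)) = true := by
  decide +kernel

theorem word7_ok : ((Perm.data.words.getD 7 []).all (fun k => Nat.blt k 16) &&
    allBelow Perm.data.n fun i =>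
      Nat.beq (Perm.data.app (Perm.data.words.getD 7 []) i) (Perm.data.img 16 i)) = true := by
  decide +kernel

end CfsgLib.Spor.Fi22
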