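import Cfsg.Agent.Lib.Spor.Fi22.Words
import Cfsg.Agent.Lib.Spor.Fi22.PermWords0
import Cfsg.Agent.Lib.Spor.Fi22.PermWords1
import Cfsg.Agent.Lib.Spor.Fi22.PermWords2

/-!
The orbits along the base.
-/

namespace CfsgLib.Spor.Fi22

open CfsgLib.PresCert Cfsg.Spor

theorem words_ok : Perm.data.okWords Perm.data.g Perm.data.words = true :=
  (Bool.and_eq_true_iff.2 ⟨word0_ok, (Bool.and_eq_true_iff.2 ⟨word1_ok, (Bool.and_eq_true_iff.2 ⟨word2_ok, (Bool.and_eq_true_iff.2 ⟨word3_ok, (Bool.and_eq_true_iff.2 ⟨word4_ok, (Bool.and_eq_true_iff.2 ⟨word5_ok, (Bool.and_eq_true_iff.2 ⟨word6_ok, (Bool.and_eq_true_iff.2 ⟨word7_ok, rfl⟩)⟩)⟩)⟩)⟩)⟩)⟩)⟩)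

theorem levels_ok : Perm.data.okLevels [] Perm.levels = true := by decide +kernel

end CfsgLib.Spor.Fi22
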