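import Cfsg.Agent.Lib.PresCert.PermHom
import Cfsg.Agent.Lib.Spor.Fi22.PermData

/-!
Relators checked on 3510 points.
-/

namespace CfsgLib.Spor.Fi22

open CfsgLib.PresCert

/-- numeric relators, part 0 -/
def relNums0 : List (List Nat) :=
  [[0, 1, 0, 1, 0, 1],
   [3, 7, 3, 7, 3, 7],
   [0, 2, 0, 2],
   [0, 6, 0, 6],
   [1, 4, 1, 4],
   [1, 8, 1, 8],
   [2, 7, 2, 7],
   [3, 8, 3, 8],
   [5, 7, 5, 7],
   [0, 0],
   [4, 4],
   [8, 8]]

theorem relNums0_ok : Perm.data.okNums relNums0 = true := by decide +kernel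

end CfsgLib.Spor.Fi22
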