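import Cfsg.Agent.Lib.PresCert.PermHom
import Cfsg.Agent.Lib.Spor.Fi22.PermData

/-!
Relators checked on 3510 points.
-/

namespace CfsgLib.Spor.Fi22

open CfsgLib.PresCert

/-- numeric relators, part 2 -/
def relNums2 : List (List Nat) :=
  [[2, 3, 2, 3, 2, 3],
   [5, 6, 5, 6, 5, 6],
   [0, 4, 0, 4],
   [0, 8, 0, 8],
   [1, 6, 1, 6],
   [2, 5, 2, 5],
   [3, 5, 3, 5],
   [4, 7, 4, 7],
   [6, 7, 6, 7],
   [2, 2],
   [6, 6]]

theorem relNums2_ok : Perm.data.okNums relNums2 = true := by decide +kernel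

end CfsgLib.Spor.Fi22
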