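import Cfsg.Agent.Lib.PresCert.PermHom
import Cfsg.Agent.Lib.Spor.Fi22.PermData

/-!
Relators checked on 3510 points.
-/

namespace CfsgLib.Spor.Fi22

open CfsgLib.PresCert

/-- numeric relators, part 3 -/
def relNums3 : List (List Nat) :=
  [[3, 4, 3, 4, 3, 4],
   [7, 8, 7, 8, 7, 8],
   [0, 5, 0, 5],
   [1, 3, 1, 3],
   [1, 7, 1, 7],
   [2, 6, 2, 6],
   [3, 6, 3, 6],
   [4, 8, 4, 8],
   [6, 8, 6, 8],
   [3, 3],
   [7, 7]]

theorem relNums3_ok : Perm.data.okNums relNums3 = true := by decide +kernel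

end CfsgLib.Spor.Fi22
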