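import Cfsg.Agent.Lib.PresCert.PermHom
import Cfsg.Agent.Lib.Spor.Fi22.PermData

/-!
Relators checked on 3510 points.
-/

namespace CfsgLib.Spor.Fi22

open CfsgLib.PresCert

/-- numeric relators, part 4 -/
def relNums4 : List (List Nat) :=
  [[3, 2, 1, 3, 4, 5, 3, 7, 8, 3, 2, 1, 3, 4, 5, 3, 7, 8, 3, 2, 1, 3, 4, 5, 3, 7, 8, 3, 2, 1, 3, 4, 5, 3, 7, 8, 3, 2, 1, 3, 4, 5, 3, 7, 8, 3, 2, 1, 3, 4, 5, 3, 7, 8, 3, 2, 1, 3, 4, 5, 3, 7, 8, 3, 2, 1, 3, 4, 5, 3, 7, 8, 3, 2, 1, 3, 4, 5, 3, 7, 8, 3, 2, 1, 3, 4, 5, 3, 7, 8]]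

theorem relNums4_ok : Perm.data.okNums relNums4 = true := by decide +kernel

end CfsgLib.Spor.Fi22
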