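import Cfsg.Agent.Lib.Spor.Fi22.Bounds
import Cfsg.Agent.Lib.Spor.Fi22.PermInvol
import Cfsg.Agent.Lib.Spor.Fi22.PermLevels
import Cfsg.Agent.Lib.Spor.Fi22.PermRels0
import Cfsg.Agent.Lib.Spor.Fi22.PermRels1
import Cfsg.Agent.Lib.Spor.Fi22.PermRels2
import Cfsg.Agent.Lib.Spor.Fi22.PermRels3
import Cfsg.Agent.Lib.Spor.Fi22.PermRels4
import Cfsg.Agent.Lib.Spor.Fi22.PermRels5
import Cfsg.Agent.Lib.Spor.Fi22.PermRels6

/-!
The order of the presented Fischer group Fi22.
-/

namespace CfsgLib.Spor.Fi22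

open CfsgLib.PresCert Cfsg.Spor

/-- all numeric relators -/
def relNums : List (List Nat) := relNums0 ++ relNums1 ++ relNums2 ++ relNums3 ++ relNums4 ++ relNums5 ++ relNums6

theorem relNums_ok : Perm.data.okNums relNums = true := by
  simp only [PermData.okNums, relNums, List.all_append, Bool.and_eq_true]
  exact ⟨⟨⟨⟨⟨⟨relNums0_ok, relNums1_ok⟩, relNums2_ok⟩, relNums3_ok⟩, relNums4_ok⟩, relNums5_ok⟩,
    relNums6_ok⟩

theorem rels_covered : PermData.okCovered idx relNums known = true := by decide +kernel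

/-- The presented Fischer group Fi22 has order `64561751654400`. -/
theorem natCard : Nat.card Cfsg.Spor.Fi22 = 64561751654400 := by
  have := finite
  refine le_antisymm ?_ ?_
  · have h := card_all_le.2
    rwa [Subgroup.card_top] at h
  · have h := le_card (edges := Fi22.edges) (extra := Fi22.extra) invol_ok wordsFor relNums_ok rels_covered
      (fun k hk => ?_) words_ok Perm.levels levels_ok
    · have e : (Perm.levels.map Level.len).prod = 64561751654400 := by decide +kernel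
      rwa [e] at h
    · have hk' : k < 9 := hk
      interval_cases k
      exacts [⟨.a, rfl⟩, ⟨.b, rfl⟩, ⟨.c, rfl⟩, ⟨.d, rfl⟩, ⟨.e, rfl⟩, ⟨.f, rfl⟩, ⟨.g, rfl⟩, ⟨.h, rfl⟩, ⟨.i, rfl⟩]

end CfsgLib.Spor.Fi22
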