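import Cfsg.Agent.Lib.Spor.Fi22.KData

/-!
Checking slots of the certificate.
-/

namespace CfsgLib.Spor.Fi22.K

open CfsgLib.PresCert

theorem slots_14 : cert.okRange 7168 512 = true := by decide +kernel

theorem slots_15 : cert.okRange 7680 512 = true := by decide +kernel

theorem slots_16 : cert.okRange 8192 512 = true := by decide +kernel

theorem slots_17 : cert.okRange 8704 512 = true := by decide +kernel

theorem slots_18 : cert.okRange 9216 512 = true := by decide +kernel

theorem slots_19 : cert.okRange 9728 512 = true := by decide +kernel

theorem slots_20 : cert.okRange 10240 512 = true := by decide +kernel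

end CfsgLib.Spor.Fi22.K
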