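import Cfsg.Agent.Lib.Spor.Fi22.Words
import Cfsg.Agent.Lib.Spor.Fi22.KCert
import Cfsg.Agent.Lib.Spor.Fi22.F2Cert
import Cfsg.Agent.Lib.Spor.Fi22.F3Cert
import Cfsg.Agent.Lib.Spor.Fi22.F4Cert
import Cfsg.Agent.Lib.Spor.Fi22.F5Cert
import Cfsg.Agent.Lib.Spor.Fi22.F6Cert
import Cfsg.Agent.Lib.Spor.Fi22.F7Cert
import Cfsg.Agent.Lib.Spor.Fi22.F8Cert
import Cfsg.Agent.Lib.Spor.Fi22.F9Cert

/-!
Upper bounds for the orders of the presented group and of the subgroup on eight letters.
-/

namespace CfsgLib.Spor.Fi22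

open CfsgLib.PresCert Cfsg.Spor

theorem card_b : CardLE (lettersGroup [Fi22.Gen.b] gen) (2 * 1) :=
  step_bound F9.valid [.b] [] (by simp) (by decide +kernel) (by decide +kernel)
    (by simpa [lettersGroup] using CardLE.bot)

theorem card_bc : CardLE (lettersGroup [Fi22.Gen.b, .c] gen) 6 :=
  step_bound F8.valid [.b, .c] [.b] (by simp) (by decide +kernel)
    (by decide +kernel) card_b

theorem card_bcd : CardLE (lettersGroup [Fi22.Gen.b, .c, .d] gen) 24 :=
  step_bound F7.valid [.b, .c, .d] [.b, .c] (by simp) (by decide +kernel)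
    (by decide +kernel) card_bc

theorem card_bcde : CardLE (lettersGroup [Fi22.Gen.b, .c, .d, .e] gen) 120 :=
  step_bound F6.valid [.b, .c, .d, .e] [.b, .c, .d] (by simp) (by decide +kernel)
    (by decide +kernel) card_bcd

theorem card_bcdef : CardLE (lettersGroup [Fi22.Gen.b, .c, .d, .e, .f] gen) 720 :=
  step_bound F5.valid [.b, .c, .d, .e, .f] [.b, .c, .d, .e] (by simp) (by decide +kernel)
    (by decide +kernel) card_bcde

theorem card_bcdefg : CardLE (lettersGroup [Fi22.Gen.b, .c, .d, .e, .f, .g] gen) 5040 :=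
  step_bound F4.valid [.b, .c, .d, .e, .f, .g] [.b, .c, .d, .e, .f] (by simp) (by decide +kernel)
    (by decide +kernel) card_bcdef

theorem card_bcdefgh : CardLE (lettersGroup [Fi22.Gen.b, .c, .d, .e, .f, .g, .h] gen) 1451520 :=
  step_bound F3.valid [.b, .c, .d, .e, .f, .g, .h] [.b, .c, .d, .e, .f, .g] (by simp) (by decide +kernel)
    (by decide +kernel) card_bcdefg

theorem card_K_le : CardLE (lettersGroup [Fi22.Gen.b, .c, .d, .e, .f, .g, .h, .i] gen) 4585351680 :=
  step_bound F2.valid [.b, .c, .d, .e, .f, .g, .h, .i] [.b, .c, .d, .e, .f, .g, .h] (by simp) (by decide +kernel)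
    (by decide +kernel) card_bcdefgh

theorem card_all_le : CardLE (⊤ : Subgroup Cfsg.Spor.Fi22) 64561751654400 :=
  top_eq_lettersGroup (edges := Fi22.edges) (extra := Fi22.extra) allGens mem_allGens ▸
    step_bound K.valid allGens [.b, .c, .d, .e, .f, .g, .h, .i] (fun x _ => mem_allGens x)
      (by decide +kernel) (by decide +kernel) card_K_le

theorem finite : Finite Cfsg.Spor.Fi22 := by
  have h := card_all_le.1
  rw [Subgroup.card_top] at h
  exact Nat.finite_of_card_ne_zero h

end CfsgLib.Spor.Fi22
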