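import Cfsg.Agent.Lib.Spor.Fi22.HData

/-!
Checking slots of the certificate.
-/

namespace CfsgLib.Spor.Fi22.H

open CfsgLib.PresCert

theorem slots_4 : cert.okRange 2048 512 = true := by decide +kernel

theorem slots_5 : cert.okRange 2560 512 = true := by decide +kernel

theorem slots_6 : cert.okRange 3072 438 = true := by decide +kernel

end CfsgLib.Spor.Fi22.H
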