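import Cfsg.Agent.Lib.Spor.Fi22.Order
import Cfsg.Agent.Lib.Spor.Fi22.HCert
import Cfsg.Agent.Lib.PresCert.CosetAction

/-!
The subgroups of index 3510 and 14080 of the presented group, and the action on 3510 points.
-/

namespace CfsgLib.Spor.Fi22

open CfsgLib.PresCert Cfsg.Spor

/-- the words generating the subgroup of index 3510 -/
def hWords : List (List Fi22.Gen) :=
  [[.a], [.c], [.d], [.e], [.f], [.g], [.h], [.i],
    (List.replicate 5 [.a, .b, .c, .d, .e, .h]).flatten]

/-- the subgroup of index 3510 -/
noncomputable def H : Subgroup Cfsg.Spor.Fi22 := wordsGroup hWords gen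

/-- the subgroup of index 14080 -/
noncomputable def K : Subgroup Cfsg.Spor.Fi22 :=
  lettersGroup [Fi22.Gen.b, .c, .d, .e, .f, .g, .h, .i] gen

/-- the representation on 3510 points -/
noncomputable def π : Cfsg.Spor.Fi22 →* Equiv.Perm (Fin Perm.data.n) :=
  rep Perm.data idx invol_ok wordsFor relNums_ok rels_covered

theorem idx_lt (x : Fi22.Gen) : idx x < Perm.data.g := by
  show idx x < 9
  cases x <;> simp [idx]

theorem π_gen (x : Fi22.Gen) (i : Fin Perm.data.n) :
    ((π (gen x) i : Fin Perm.data.n) : ℕ) = Perm.data.img (idx x) i := by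
  rw [π, rep_of invol_ok wordsFor relNums_ok rels_covered x]
  exact PermData.genPerm_img invol_ok (idx_lt x) i

theorem π_word (w : List Fi22.Gen) (i : Fin Perm.data.n) :
    ((π ((w.map gen).prod) i : Fin Perm.data.n) : ℕ) = Perm.data.app (w.map idx).reverse i := by
  have h : π (w.map gen).prod = ((w.map idx).map (PermData.genPerm invol_ok)).prod := by
    rw [map_list_prod, List.map_map, List.map_map]
    refine congrArg List.prod (List.map_congr_left fun x _ => ?_)
    exact rep_of invol_ok wordsFor relNums_ok rels_covered x
  rw [h]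
  refine PermData.prod_apply invol_ok (w.map idx) (fun k hk => ?_) i
  obtain ⟨x, -, rfl⟩ := List.mem_map.1 hk
  exact idx_lt x

theorem index_K_le : K.index ≤ 14080 := by
  have h := (index_bound K.valid gen_sq gen_known
    (sel := allGens) (subs := [Fi22.Gen.b, .c, .d, .e, .f, .g, .h, .i].map fun x => [x]) (d := .a)
    (by decide +kernel) (by decide +kernel)).1
  rw [wordsGroup_singletons, top_eq_lettersGroup (edges := Fi22.edges) (extra := Fi22.extra) allGens
    mem_allGens, Subgroup.relIndex_top_right] at h
  exact h

theorem index_K : K.index = 14080 := by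
  have := finite
  have h := K.card_mul_index
  rw [natCard] at h
  refine le_antisymm index_K_le ?_
  by_contra hlt
  have : Nat.card K * K.index ≤ 4585351680 * 14079 := Nat.mul_le_mul card_K_le.2 (by omega)
  omega

theorem index_H_le : H.index ≤ 3510 := by
  have h := (index_bound H.valid gen_sq gen_known
    (sel := allGens) (subs := hWords) (d := .a) (by decide +kernel) (by decide +kernel)).1
  rw [top_eq_lettersGroup (edges := Fi22.edges) (extra := Fi22.extra) allGens
    mem_allGens, Subgroup.relIndex_top_right] at h
  exact h

end CfsgLib.Spor.Fi22
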