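import Cfsg.Agent.Lib.Spor.Fi22.Class
import Cfsg.Agent.Lib.Spor.Fi22.O73.Link
import Cfsg.Prelude.Def_FischerSpaces

/-!
The generators of the presented Fischer group are transpositions; the subgroup `O7(3)`.
-/

set_option autoImplicit false

namespace CfsgLib.Spor.Fi22.Transp

open CfsgLib.PresCert Cfsg.Spor

theorem isConj_gen {x y : Fi22.Gen} (h : coxLabel Fi22.edges x y = 3) :
    IsConj (gen x) (gen y) := by
  have e := cox (x := x) (y := y)
  rw [h] at e
  have hx := gen_sq x
  have hy := gen_sq y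
  refine isConj_iff.2 ⟨gen x * gen y, ?_⟩
  rw [mul_inv_rev, inv_eq_of_mul_eq_one_left hx, inv_eq_of_mul_eq_one_left hy]
  refine Eq.trans ?_ (inv_eq_of_mul_eq_one_left hy)
  refine eq_inv_of_mul_eq_one_left ?_
  rw [← e, pow_succ, pow_succ, pow_one]
  group

/-- Every generator is a transposition. -/
theorem gen_mem_class (x : Fi22.Gen) : gen x ∈ conjugatesOf ga := by
  have b : IsConj ga (gen .b) := isConj_gen (by decide)
  have c := b.trans (isConj_gen (y := .c) (by decide))
  have d := c.trans (isConj_gen (y := .d) (by decide))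
  have e := d.trans (isConj_gen (y := .e) (by decide))
  have h := d.trans (isConj_gen (y := .h) (by decide))
  have f := e.trans (isConj_gen (y := .f) (by decide))
  have g := f.trans (isConj_gen (y := .g) (by decide))
  have i := h.trans (isConj_gen (y := .i) (by decide))
  cases x
  exacts [IsConj.refl _, b, c, d, e, f, g, h, i]

theorem isDSubgroup_K : Cfsg.IsDSubgroup (conjugatesOf ga) K := by
  refine le_antisymm ((Subgroup.closure_le _).2 fun d hd => hd.2) ?_
  conv_lhs => rw [K, lettersGroup]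
  refine Subgroup.closure_mono ?_
  rintro q ⟨x, hx, rfl⟩
  exact ⟨gen_mem_class x, Subgroup.subset_closure ⟨x, hx, rfl⟩⟩

/-- The statement about `O7(3)` in the presented group. -/
theorem exists_omegaSeven : ∃ L : Subgroup Cfsg.Spor.Fi22,
    Cfsg.IsDSubgroup (conjugatesOf ga) L ∧
      Nonempty (↥L ≃* Cfsg.POmega (ZMod 3) (Cfsg.quadFormOdd 3 (ZMod 3))) ∧
      ¬ 3 ∣ L.index :=
  ⟨K, isDSubgroup_K, O73.equiv_omega, by rw [index_K]; decide⟩

end CfsgLib.Spor.Fi22.Transp

namespace CfsgLib.Spor.Fi22.Transp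

open CfsgLib.PresCert Cfsg.Spor

/-- The statement about `O7(3)` in a group isomorphic to the presented one. -/
theorem omegaSeven_of_iso {G : Type*} [Group G] [Finite G] {D : Set G} (e : G ≃* Cfsg.Spor.Fi22)
    (he : e '' D = conjugatesOf ga) :
    ∃ L : Subgroup G, Cfsg.IsDSubgroup D L ∧
      Nonempty (↥L ≃* Cfsg.POmega (ZMod 3) (Cfsg.quadFormOdd 3 (ZMod 3))) ∧
      ∀ P : Sylow 3 ↥L, ∃ P' : Sylow 3 G, (P : Subgroup ↥L).map L.subtype = (P' : Subgroup G) := by
  obtain ⟨L₀, hd, ⟨f⟩, hi⟩ := exists_omegaSeven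
  refine ⟨L₀.map e.symm.toMonoidHom, ?_, ⟨((e.symm.subgroupMap L₀).symm).trans f⟩, fun P => ?_⟩
  · show Subgroup.closure {d : G | d ∈ D ∧ d ∈ L₀.map e.symm.toMonoidHom} = L₀.map e.symm.toMonoidHom
    conv_rhs => rw [← hd, MonoidHom.map_closure]
    congr 1
    ext d
    simp only [Set.mem_setOf_eq, Set.mem_image, Subgroup.mem_map]
    constructor
    · rintro ⟨hD, x, hx, rfl⟩
      exact ⟨x, ⟨by rw [← he]; exact ⟨_, hD, by simp⟩, hx⟩, rfl⟩
    · rintro ⟨x, ⟨hx, hL⟩, rfl⟩
      rw [← he] at hx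
      obtain ⟨y, hy, rfl⟩ := hx
      exact ⟨by simpa using hy, e y, hL, rfl⟩
  · revert P
    generalize hL : L₀.map e.symm.toMonoidHom = L
    intro P
    have hidx : ¬ 3 ∣ L.index := by
      rw [← hL, show e.symm.toMonoidHom = (e.symm : Cfsg.Spor.Fi22 →* G) from rfl, Subgroup.index_map_equiv]
      exact hi
    have hp : IsPGroup 3 ↥((P : Subgroup ↥L).map L.subtype) := P.isPGroup'.map _
    have hc : Nat.card ↥((P : Subgroup ↥L).map L.subtype) = 3 ^ (Nat.card G).factorization 3 := by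
      rw [Subgroup.card_map_of_injective L.subtype_injective, P.card_eq_multiplicity,
        ← L.card_mul_index, Nat.factorization_mul Nat.card_pos.ne' L.index_ne_zero_of_finite,
        Finsupp.add_apply, Nat.factorization_eq_zero_of_not_dvd hidx, add_zero]
    haveI : Fact (Nat.Prime 3) := ⟨by norm_num⟩
    exact ⟨Sylow.ofCard _ hc, (Sylow.coe_ofCard _ hc).symm⟩

end CfsgLib.Spor.Fi22.Transp
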