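import Cfsg.Agent.Lib.PresCert.Check

/-!
Coset table certificate (generated data).
-/

namespace CfsgLib.Spor.Fi22.F4

open CfsgLib.PresCert

noncomputable def tab0 : BTree := (.node (.leaf 0x1000000000400000000000000060008104000a0000400080e40009800040008184000a80004000001000000000300000000000000050010004000900004000812400080000300081a4000880003000001000000000200000000000000040010084000780003001002400070000300081c40006800020000010000000001000000000000000300100e400060000200100a40005800020010044000500002000001000000000000000000000000020010124000480001001010400040000100100c40003800010010064000300001000000000000000100000880002800000000068000200000000004800018000000000280001000000000008000080000) (.leaf 0x8064000e800060008044000e000060008024000d800060008004000d000060008144000f00006000001000000000500080c4000c0000500080a4000b800050008084000b000050008164000c80005))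

noncomputable def tab : BTree := tab0

noncomputable def par : BTree := (.leaf 0x5000000000010000400000000002000030000000000300002000000000040000100000000005000000000000000000000)

noncomputable def fact : BTree := (.leaf 0x0)

/-- the certificate -/
noncomputable def cert : Cert where
  n := 7
  v := 0
  g := 6
  inv := [0, 1, 2, 3, 4, 5]
  rels := [[0, 2, 0, 2], [0, 3, 0, 3], [0, 4, 0, 4], [0, 5, 0, 5], [1, 3, 1, 3], [1, 4, 1, 4], [1, 5, 1, 5], [2, 4, 2, 4], [2, 5, 2, 5], [3, 5, 3, 5], [0, 1, 0, 1, 0, 1], [1, 2, 1, 2, 1, 2], [2, 3, 2, 3, 2, 3], [3, 4, 3, 4, 3, 4], [4, 5, 4, 5, 4, 5], [2, 0, 2, 0], [3, 0, 3, 0], [4, 0, 4, 0], [5, 0, 5, 0], [3, 1, 3, 1], [4, 1, 4, 1], [5, 1, 5, 1], [4, 2, 4, 2], [5, 2, 5, 2], [5, 3, 5, 3], [1, 0, 1, 0, 1, 0], [2, 1, 2, 1, 2, 1], [3, 2, 3, 2, 3, 2], [4, 3, 4, 3, 4, 3], [5, 4, 5, 4, 5, 4]]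
  subs := [[0], [1], [2], [3], [4]]
  tab := tab
  par := par
  fact := fact
  nfact := 0

/-- justifications -/
noncomputable def just0 : List Cert.Just :=
  []

/-- all justifications -/
noncomputable def justs : List Cert.Just := just0

end CfsgLib.Spor.Fi22.F4
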