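import Cfsg.Agent.Lib.PresCert.Check

/-!
Coset table certificate (generated data).
-/

namespace CfsgLib.Spor.Fi22.F5

open CfsgLib.PresCert

noncomputable def tab : BTree := (.leaf 0x80440009800050008024000900005000800400088000500080c4000a0000500000100000000040008084000780004000806400070000400080e40008000040000010000000003000000000000000500080a40006000030008104000680003000001000000000200000000000000040010004000580003000812400050000200000100000000010000000000000003001006400048000200100240004000020000010000000000000000000000000200100a40003800010010084000300001001004400028000100000000000000010000068000200000000004800018000000000280001000000000008000080000)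

noncomputable def par : BTree := (.leaf 0x400000000001000030000000000200002000000000030000100000000004000000000000000000000)

noncomputable def fact : BTree := (.leaf 0x0)

/-- the certificate -/
noncomputable def cert : Cert where
  n := 6
  v := 0
  g := 5
  inv := [0, 1, 2, 3, 4]
  rels := [[0, 2, 0, 2], [0, 3, 0, 3], [0, 4, 0, 4], [1, 3, 1, 3], [1, 4, 1, 4], [2, 4, 2, 4], [0, 1, 0, 1, 0, 1], [1, 2, 1, 2, 1, 2], [2, 3, 2, 3, 2, 3], [3, 4, 3, 4, 3, 4], [2, 0, 2, 0], [3, 0, 3, 0], [4, 0, 4, 0], [3, 1, 3, 1], [4, 1, 4, 1], [4, 2, 4, 2], [1, 0, 1, 0, 1, 0], [2, 1, 2, 1, 2, 1], [3, 2, 3, 2, 3, 2], [4, 3, 4, 3, 4, 3]]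
  subs := [[0], [1], [2], [3]]
  tab := tab
  par := par
  fact := fact
  nfact := 0

/-- justifications -/
noncomputable def just0 : List Cert.Just :=
  []

/-- all justifications -/
noncomputable def justs : List Cert.Just := just0

end CfsgLib.Spor.Fi22.F5
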