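import Cfsg.Agent.Lib.PresCert.Check

/-!
Coset table certificate (generated data).
-/

namespace CfsgLib.Spor.Fi22.F8

open CfsgLib.PresCert

noncomputable def tab : BTree := (.leaf 0x800400010000200000100000000010000010000000000000000000000000200000000000000010000008000080000)

noncomputable def par : BTree := (.leaf 0x100000000001000000000000000000000)

noncomputable def fact : BTree := (.leaf 0x0)

/-- the certificate -/
noncomputable def cert : Cert where
  n := 3
  v := 0
  g := 2
  inv := [0, 1]
  rels := [[0, 1, 0, 1, 0, 1], [1, 0, 1, 0, 1, 0]]
  subs := [[0]]
  tab := tab
  par := par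
  fact := fact
  nfact := 0

/-- justifications -/
noncomputable def just0 : List Cert.Just :=
  []

/-- all justifications -/
noncomputable def justs : List Cert.Just := just0

end CfsgLib.Spor.Fi22.F8
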