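import Cfsg.Agent.Lib.Spor.Fi22.Cosets
import Cfsg.Agent.Lib.Spor.Fi22.HPermData

/-!
The orbits of the subgroup of index 3510 on its cosets.
-/

namespace CfsgLib.Spor.Fi22

open CfsgLib.PresCert Cfsg.Spor

theorem lev0_ok : Perm.data.okOrbit Perm.lev0 = true ∧ Perm.data.okClosed Perm.lev0 = true ∧
    Perm.lev0.len = 3510 ∧ Perm.lev0.base = 0 ∧ Perm.lev0.gens = List.range 9 := by
  decide +kernel

theorem sub0_ok : HPerm.data.okOrbit HPerm.sub0 = true ∧ HPerm.data.okClosed HPerm.sub0 = true ∧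
    HPerm.sub0.len = 2816 ∧ HPerm.sub0.gens = List.range 9 := by
  decide +kernel

theorem sub1_ok : HPerm.data.okOrbit HPerm.sub1 = true ∧ HPerm.data.okClosed HPerm.sub1 = true ∧
    HPerm.sub1.len = 693 ∧ HPerm.sub1.gens = List.range 9 := by
  decide +kernel

theorem fix_zero :
    (hWords.all fun w => Nat.beq (Perm.data.app (w.map idx).reverse 0) 0) = true := by
  decide +kernel

theorem hImg_ok : ((List.range 9).all fun k => allBelow 3510 fun i =>
    Nat.beq (Perm.data.app ((hWords.getD k []).map idx).reverse i) (HPerm.data.img k i)) = true := by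
  decide +kernel

/-- the base point -/
noncomputable def i₀ : Fin Perm.data.n := ⟨0, (by decide +kernel : 0 < Perm.data.n)⟩

theorem H_fix : ∀ k ∈ H, π k i₀ = i₀ := by
  suffices h : H ≤ (MulAction.stabilizer (Equiv.Perm (Fin Perm.data.n)) i₀).comap π from
    fun k hk => h hk
  rw [H, wordsGroup, Subgroup.closure_le]
  rintro _ ⟨w, hw, rfl⟩
  show π (w.map gen).prod i₀ = i₀
  apply Fin.ext
  rw [π_word]
  exact Nat.eq_of_beq_eq_true (List.all_eq_true.1 fix_zero w hw)

theorem transitive (i : Fin Perm.data.n) : ∃ g, π g i₀ = i := by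
  obtain ⟨h1, h2, h3, h4, h5⟩ := lev0_ok
  have hn : Perm.data.g = 9 := rfl
  have e := PermData.ncard_orbit (PermData.interp invol_ok) Perm.lev0 h1 h2
    (fun k hk => by rw [h5] at hk; exact hn ▸ List.mem_range.1 hk) _ rfl
    (by rw [h4]; exact (by decide +kernel : 0 < Perm.data.n))
  rw [h3] at e
  have hn2 : Perm.data.n = 3510 := rfl
  have huniv : {j | ∃ σ ∈ Subgroup.closure
      {σ | ∃ k ∈ Perm.lev0.gens, (PermData.interp invol_ok).gen k = σ},
      σ ⟨Perm.lev0.base, by rw [h4]; exact (by decide +kernel : 0 < Perm.data.n)⟩ = j} =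
      Set.univ := Set.eq_of_subset_of_ncard_le (Set.subset_univ _) (by
        rw [e, Set.ncard_univ, Nat.card_eq_fintype_card, Fintype.card_fin, hn2])
  obtain ⟨σ, hσ, rfl⟩ := (huniv ▸ Set.mem_univ i : i ∈ {j | ∃ σ ∈ Subgroup.closure
      {σ | ∃ k ∈ Perm.lev0.gens, (PermData.interp invol_ok).gen k = σ},
      σ ⟨Perm.lev0.base, by rw [h4]; exact (by decide +kernel : 0 < Perm.data.n)⟩ = j})
  have hr : σ ∈ π.range := by
    refine (Subgroup.closure_le _).2 ?_ hσ
    rintro _ ⟨k, hk, rfl⟩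
    rw [h5] at hk
    have hk' : k < 9 := List.mem_range.1 hk
    have hx : ∀ x : Fi22.Gen, idx x = k → (PermData.interp invol_ok).gen k ∈ π.range :=
      fun x e => ⟨gen x, by rw [π, rep_of invol_ok wordsFor relNums_ok rels_covered x, e]; rfl⟩
    interval_cases k
    exacts [hx .a rfl, hx .b rfl, hx .c rfl, hx .d rfl, hx .e rfl, hx .f rfl, hx .g rfl,
      hx .h rfl, hx .i rfl]
  obtain ⟨g, rfl⟩ := hr
  exact ⟨g, congrArg _ (Fin.ext h4.symm)⟩

theorem index_H : H.index = 3510 := by
  haveI := finite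
  refine le_antisymm index_H_le ?_
  have hwd : ∀ a b : Cfsg.Spor.Fi22, (QuotientGroup.leftRel H) a b → π a i₀ = π b i₀ := by
    intro a b hab
    rw [QuotientGroup.leftRel_apply] at hab
    conv_rhs => rw [show b = a * (a⁻¹ * b) by simp]
    rw [map_mul, Equiv.Perm.mul_apply, H_fix _ hab]
  have hs : Function.Surjective
      (Quotient.lift (fun g => π g i₀) hwd : Cfsg.Spor.Fi22 ⧸ H → Fin Perm.data.n) := fun i => by
    obtain ⟨g, hg⟩ := transitive i
    exact ⟨(g : Cfsg.Spor.Fi22 ⧸ H), hg⟩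
  have h := Nat.card_le_card_of_surjective _ hs
  rw [Nat.card_fin] at h
  rw [Subgroup.index_eq_card]
  exact h

/-- the generators of the subgroup as permutations -/
noncomputable def hInterp : PermData.Interp HPerm.data where
  gen k := π ((hWords.getD k []).map gen).prod
  gen_img k hk i := by
    have h := allBelow_spec (List.all_eq_true.1 hImg_ok k (List.mem_range.2 hk)) i i.2
    exact (π_word _ i).trans (Nat.eq_of_beq_eq_true h)

theorem orbit_set (L : Level) (h1 : HPerm.data.okOrbit L = true)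
    (h2 : HPerm.data.okClosed L = true) (hg : L.gens = List.range 9) :
    ∃ hb : L.base < Perm.data.n, Set.ncard {i | ∃ k ∈ H, π k ⟨L.base, hb⟩ = i} = L.len := by
  have hb : L.base < HPerm.data.n := by
    simp only [PermData.okOrbit, Bool.and_eq_true, Nat.blt_eq] at h1
    exact h1.1.1.1.2
  refine ⟨hb, ?_⟩
  have hm : H.map π = Subgroup.closure {σ | ∃ k ∈ L.gens, hInterp.gen k = σ} := by
    rw [H, wordsGroup, MonoidHom.map_closure, hg]
    congr 1
    ext σ
    constructor
    · rintro ⟨_, ⟨w, hw, rfl⟩, rfl⟩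
      obtain ⟨k, hk, rfl⟩ := List.getElem_of_mem hw
      refine ⟨k, List.mem_range.2 hk, ?_⟩
      show π ((hWords.getD k []).map gen).prod = _
      rw [List.getD_eq_getElem?_getD, List.getElem?_eq_getElem hk]
      rfl
    · rintro ⟨k, hk, rfl⟩
      have hk' : k < hWords.length := List.mem_range.1 hk
      refine ⟨_, ⟨hWords[k], List.getElem_mem hk', rfl⟩, ?_⟩
      show _ = π ((hWords.getD k []).map gen).prod
      rw [List.getD_eq_getElem?_getD, List.getElem?_eq_getElem hk']
      rfl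
  have e := PermData.ncard_orbit hInterp L h1 h2
    (fun k hk => by rw [hg] at hk; exact List.mem_range.1 hk) (H.map π) hm hb
  rw [← e]
  congr 1
  ext i
  simp only [Set.mem_setOf_eq, Subgroup.mem_map]
  constructor
  · rintro ⟨k, hk, rfl⟩
    exact ⟨π k, ⟨k, hk, rfl⟩, rfl⟩
  · rintro ⟨_, ⟨k, hk, rfl⟩, rfl⟩
    exact ⟨k, hk, rfl⟩

theorem orbit_H (L : Level) (h1 : HPerm.data.okOrbit L = true)
    (h2 : HPerm.data.okClosed L = true) (hg : L.gens = List.range 9) :
    ∃ q : Cfsg.Spor.Fi22 ⧸ H, (MulAction.orbit H q).ncard = L.len := by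
  obtain ⟨hb, e⟩ := orbit_set L h1 h2 hg
  exact exists_orbit_ncard π H i₀ H_fix index_H transitive ⟨L.base, hb⟩ L.len e

end CfsgLib.Spor.Fi22
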