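import Cfsg.Agent.Lib.PresCert.PermHom

/-!
Variants of the table checks in which intermediate points are reduced to numerals, so that
repeated lookups are shared in the kernel.
-/

set_option autoImplicit false

namespace CfsgLib.Spor.Fi22.Strict

open CfsgLib.PresCert

/-- apply a word, reducing each intermediate point to a numeral -/
noncomputable def appS (D : PermData) : List Nat → Nat → Nat
  | [], i => i
  | k :: w, i =>
    Nat.rec (motive := fun _ => Nat) (appS D w (D.img k 0))
      (fun m _ => appS D w (D.img k (Nat.add m 1))) i

theorem appS_eq (D : PermData) : ∀ (w : List Nat) (i : Nat), appS D w i = D.app w i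
  | [], i => rfl
  | k :: w, 0 => by rw [appS, PermData.app]; exact appS_eq D w _
  | k :: w, m + 1 => by rw [appS, PermData.app]; exact appS_eq D w _

/-- the word moves no point -/
noncomputable def okId (D : PermData) (w : List Nat) : Bool :=
  allBelow D.n fun i => Nat.beq (appS D w i) i

theorem okId_eq (D : PermData) (w : List Nat) : D.okId w = okId D w := by
  simp only [okId, PermData.okId, appS_eq]

/-- the numeric words are trivial on every point -/
noncomputable def okNums (D : PermData) (ns : List (List Nat)) : Bool :=
  ns.all fun w => (w.all fun k => Nat.blt k D.g) && okId D w

theorem okNums_eq (D : PermData) (ns : List (List Nat)) : D.okNums ns = okNums D ns := by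
  simp only [okNums, PermData.okNums, okId_eq]

/-- the further elements are the products they claim to be -/
noncomputable def okWords (D : PermData) : Nat → List (List Nat) → Bool
  | _, [] => true
  | k, w :: l =>
    (w.all fun j => Nat.blt j k) &&
      (allBelow D.n fun i => Nat.beq (appS D w i) (D.img k i)) && okWords D (k + 1) l

theorem okWords_eq (D : PermData) : ∀ (k : Nat) (l : List (List Nat)), D.okWords k l = okWords D k l
  | _, [] => rfl
  | k, w :: l => by simp only [okWords, PermData.okWords, appS_eq, okWords_eq D (k + 1) l]

end CfsgLib.Spor.Fi22.Strict
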