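import Cfsg.Agent.Lib.Spor.Fi22.Simple
import Cfsg.Agent.Lib.Spor.Fi22.Strict
import Cfsg.Agent.Lib.Chev.G2J2.Induced

/-!
The transpositions of the presented Fischer group and the centraliser of one of them.
-/

set_option autoImplicit false
set_option maxRecDepth 100000

namespace CfsgLib.Spor.Fi22.Transp

open CfsgLib.PresCert Cfsg.Spor

/-- the transposition `a` -/
noncomputable def ga : Cfsg.Spor.Fi22 := gen .a

/-- the product of the letters of a word -/
noncomputable abbrev val (w : List Fi22.Gen) : Cfsg.Spor.Fi22 := (w.map gen).prod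

/-- the two words act in the same way -/
noncomputable def okEq (u v : List Fi22.Gen) : Bool :=
  allBelow 3510 fun i => Nat.beq (Strict.appS Perm.data (u.map idx).reverse i)
    (Strict.appS Perm.data (v.map idx).reverse i)

theorem eq_of_okEq {u v : List Fi22.Gen} (h : okEq u v = true) : val u = val v :=
  π_injective (Equiv.ext fun i => Fin.ext (by
    rw [π_word, π_word, ← Strict.appS_eq, ← Strict.appS_eq]
    exact Nat.eq_of_beq_eq_true (allBelow_spec h i i.2)))

theorem word_mem {w : List Fi22.Gen} (hw : w ∈ hWords) : (w.map gen).prod ∈ H :=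
  Subgroup.subset_closure ⟨w, hw, rfl⟩

theorem hWords_comm : (hWords.all fun w => okEq (w ++ [.a]) ([.a] ++ w)) = true := by
  decide +kernel

theorem H_le_centralizer : H ≤ Subgroup.centralizer {ga} := by
  rw [H, wordsGroup, Subgroup.closure_le]
  rintro _ ⟨w, hw, rfl⟩
  rw [SetLike.mem_coe, Subgroup.mem_centralizer_singleton_iff]
  have h := eq_of_okEq (List.all_eq_true.1 hWords_comm w hw)
  simpa [val, ga] using h

theorem stab_eq : CfsgLib.G2J2.stab π i₀ = H := by
  have hle : H ≤ CfsgLib.G2J2.stab π i₀ := fun g hg => H_fix g hg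
  have h1 : (CfsgLib.G2J2.stab π i₀).index = 3510 := by
    rw [CfsgLib.G2J2.index_stab, Nat.card_congr (Equiv.subtypeUnivEquiv transitive),
      Nat.card_eq_fintype_card, Fintype.card_fin]
    rfl
  have h2 := Subgroup.relIndex_mul_index hle
  rw [h1, index_H] at h2
  refine le_antisymm ?_ hle
  exact Subgroup.relIndex_eq_one.1 (by omega)

/-- the word of the representative of the long suborbit -/
def wA : List Fi22.Gen := [.b]

/-- the word of the representative of the short suborbit -/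
def wB : List Fi22.Gen := [.h, .e, .d, .b, .c, .a, .b]

/-- the word of a conjugate of `a` -/
def conjW (w : List Fi22.Gen) : List Fi22.Gen := w ++ [.a] ++ w.reverse

theorem val_conjW (w : List Fi22.Gen) : val (conjW w) = val w * ga * (val w)⁻¹ := by
  rw [val, conjW, List.map_append, List.prod_append, List.map_append, List.prod_append,
    prod_reverse_of_invol gen gen_sq]
  simp [val, ga]

theorem reps_ok : Perm.data.app (wA.map idx).reverse 0 = HPerm.sub0.base ∧
    Perm.data.app (wB.map idx).reverse 0 = HPerm.sub1.base ∧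
    Perm.data.app ((conjW wA).map idx).reverse 0 ≠ Perm.data.img 0 0 ∧
    Perm.data.app ((conjW wB).map idx).reverse 1 ≠ Perm.data.img 0 1 := by
  decide +kernel

theorem braidA_ok : okEq (conjW wA ++ [.a] ++ conjW wA) ([.a] ++ conjW wA ++ [.a]) = true := by
  decide +kernel

theorem commB_ok : okEq (conjW wB ++ [.a]) ([.a] ++ conjW wB) = true := by
  decide +kernel

theorem val_ne (t : List Fi22.Gen) (p : ℕ) (hp : p < Perm.data.n)
    (h : Perm.data.app (t.map idx).reverse p ≠ Perm.data.img 0 p) : val t ≠ ga := by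
  intro e
  refine h ?_
  have := π_word t ⟨p, hp⟩
  rw [show (t.map gen).prod = ga from e, ga, π_gen] at this
  exact this.symm

/-- The points are the base point and the two suborbits. -/
theorem cover (i : Fin Perm.data.n) :
    i = i₀ ∨ (∃ h ∈ H, π h (π (val wA) i₀) = i) ∨ (∃ h ∈ H, π h (π (val wB) i₀) = i) := by
  obtain ⟨a1, a2, a3, a4⟩ := sub0_ok
  obtain ⟨b1, b2, b3, b4⟩ := sub1_ok
  obtain ⟨hbA, eA⟩ := orbit_set _ a1 a2 a4
  obtain ⟨hbB, eB⟩ := orbit_set _ b1 b2 b4
  rw [a3] at eA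
  rw [b3] at eB
  obtain ⟨r1, r2, -, -⟩ := reps_ok
  have pA : π (val wA) i₀ = ⟨_, hbA⟩ := Fin.ext ((π_word _ _).trans r1)
  have pB : π (val wB) i₀ = ⟨_, hbB⟩ := Fin.ext ((π_word _ _).trans r2)
  rw [pA, pB]
  set A := {j | ∃ h ∈ H, π h ⟨_, hbA⟩ = j} with hA
  set B := {j | ∃ h ∈ H, π h ⟨_, hbB⟩ = j} with hB
  have h0 : ∀ b : Fin Perm.data.n, (b : ℕ) ≠ 0 → i₀ ∉ {j | ∃ h ∈ H, π h b = j} := by
    rintro b hb ⟨h, hh, he⟩
    have h' := congrArg (fun z => π h⁻¹ z) he
    rw [← Equiv.Perm.mul_apply, ← map_mul, inv_mul_cancel, map_one, Equiv.Perm.one_apply,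
      H_fix _ (H.inv_mem hh)] at h'
    exact hb (congrArg Fin.val h')
  have sub : ∀ b b' : Fin Perm.data.n, (∃ j, (∃ h ∈ H, π h b = j) ∧ ∃ h ∈ H, π h b' = j) →
      {j | ∃ h ∈ H, π h b = j} ⊆ {j | ∃ h ∈ H, π h b' = j} := by
    rintro b b' ⟨_, ⟨h, hh, rfl⟩, h', hh', e⟩ _ ⟨k, hk, rfl⟩
    refine ⟨k * h⁻¹ * h', H.mul_mem (H.mul_mem hk (H.inv_mem hh)) hh', ?_⟩
    rw [map_mul, Equiv.Perm.mul_apply, e, ← Equiv.Perm.mul_apply, ← map_mul, inv_mul_cancel_right]
  have dA : Disjoint ({i₀} : Set (Fin Perm.data.n)) A :=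
    Set.disjoint_singleton_left.2 (h0 _ (show HPerm.sub0.base ≠ 0 by decide +kernel))
  have dB : Disjoint ({i₀} : Set (Fin Perm.data.n)) B :=
    Set.disjoint_singleton_left.2 (h0 _ (show HPerm.sub1.base ≠ 0 by decide +kernel))
  have hd : Disjoint A B := by
    rw [Set.disjoint_left]
    intro j hjA hjB
    have e : A = B := subset_antisymm (sub _ _ ⟨j, hjA, hjB⟩) (sub _ _ ⟨j, hjB, hjA⟩)
    rw [e, eB] at eA
    omega
  have hc : ({i₀} ∪ A ∪ B : Set (Fin Perm.data.n)) = Set.univ := by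
    refine Set.eq_of_subset_of_ncard_le (Set.subset_univ _) ?_
    rw [Set.ncard_univ, Nat.card_fin, Set.ncard_union_eq (Set.disjoint_union_left.2 ⟨dB, hd⟩),
      Set.ncard_union_eq dA, Set.ncard_singleton, eA, eB]
    exact le_of_eq rfl
  rcases (hc ▸ Set.mem_univ i : i ∈ ({i₀} ∪ A ∪ B : Set _)) with (h | h) | h
  exacts [Or.inl h, Or.inr (Or.inl h), Or.inr (Or.inr h)]

theorem conj_of_point {g w h : Cfsg.Spor.Fi22} (hh : h ∈ H) (e : π h (π w i₀) = π g i₀) :
    g * ga * g⁻¹ = h * (w * ga * w⁻¹) * h⁻¹ := by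
  have hk : (h * w)⁻¹ * g ∈ H := by
    rw [← stab_eq, CfsgLib.G2J2.mem_stab, map_mul, Equiv.Perm.mul_apply, map_inv,
      Equiv.Perm.inv_eq_iff_eq, map_mul, Equiv.Perm.mul_apply, e]
  have hc := Subgroup.mem_centralizer_singleton_iff.1 (H_le_centralizer hk)
  calc g * ga * g⁻¹ = h * w * (((h * w)⁻¹ * g) * ga) * g⁻¹ := by group
    _ = h * w * (ga * ((h * w)⁻¹ * g)) * g⁻¹ := by rw [hc]
    _ = h * (w * ga * w⁻¹) * h⁻¹ := by group

/-- A conjugate of `a` is `a` or a conjugate under `H` of one of two representatives. -/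
theorem conj_cases (g : Cfsg.Spor.Fi22) : g ∈ H ∨
    ∃ h ∈ H, g * ga * g⁻¹ = h * val (conjW wA) * h⁻¹ ∨
      g * ga * g⁻¹ = h * val (conjW wB) * h⁻¹ := by
  rcases cover (π g i₀) with h | ⟨h, hh, e⟩ | ⟨h, hh, e⟩
  · left
    rw [← stab_eq]
    exact h
  · exact Or.inr ⟨h, hh, Or.inl (by rw [val_conjW]; exact conj_of_point hh e)⟩
  · exact Or.inr ⟨h, hh, Or.inr (by rw [val_conjW]; exact conj_of_point hh e)⟩

theorem centralizer_eq : Subgroup.centralizer {ga} = H := by
  refine le_antisymm (fun g hg => ?_) H_le_centralizer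
  have h1 : g * ga * g⁻¹ = ga := by
    rw [Subgroup.mem_centralizer_singleton_iff.1 hg, mul_inv_cancel_right]
  obtain ⟨-, -, r3, r4⟩ := reps_ok
  rcases conj_cases g with h | ⟨h, hh, e⟩
  · exact h
  · exfalso
    have hc := Subgroup.mem_centralizer_singleton_iff.1 (H_le_centralizer hh)
    rw [h1] at e
    rcases e with e | e
    · refine val_ne _ 0 (by decide +kernel) r3 ?_
      calc val (conjW wA) = h⁻¹ * (h * val (conjW wA) * h⁻¹) * h := by group
        _ = h⁻¹ * (ga * h) := by rw [← e, mul_assoc]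
        _ = ga := by rw [← hc, inv_mul_cancel_left]
    · refine val_ne _ 1 (by decide +kernel) r4 ?_
      calc val (conjW wB) = h⁻¹ * (h * val (conjW wB) * h⁻¹) * h := by group
        _ = h⁻¹ * (ga * h) := by rw [← e, mul_assoc]
        _ = ga := by rw [← hc, inv_mul_cancel_left]

theorem ga_sq : ga * ga = 1 := gen_sq _

theorem ga_ne_one : ga ≠ 1 := by
  intro h
  have := val_ne (conjW wA) 0 (by decide +kernel) reps_ok.2.2.1
  exact this (by rw [val_conjW, h]; group)

/-- Two conjugates of `a` commute or satisfy the braid relation. -/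
theorem comm_or_braid (g : Cfsg.Spor.Fi22) :
    g * ga * g⁻¹ * ga = ga * (g * ga * g⁻¹) ∨
      g * ga * g⁻¹ * ga * (g * ga * g⁻¹) = ga * (g * ga * g⁻¹) * ga := by
  rcases conj_cases g with hg | ⟨h, hh, e⟩
  · have hc := Subgroup.mem_centralizer_singleton_iff.1 (H_le_centralizer hg)
    left
    rw [hc, mul_inv_cancel_right]
  · have hc : h * ga * h⁻¹ = ga := by
      rw [Subgroup.mem_centralizer_singleton_iff.1 (H_le_centralizer hh), mul_inv_cancel_right]
    rcases e with e | e
    · right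
      have b : val (conjW wA) * ga * val (conjW wA) = ga * val (conjW wA) * ga := by
        simpa [val, ga, mul_assoc] using eq_of_okEq braidA_ok
      have := congrArg (fun x => h * x * h⁻¹) b
      rw [e]
      conv_lhs => rw [← hc]
      conv_rhs => rw [← hc]
      calc h * val (conjW wA) * h⁻¹ * (h * ga * h⁻¹) * (h * val (conjW wA) * h⁻¹)
          = h * (val (conjW wA) * ga * val (conjW wA)) * h⁻¹ := by group
        _ = h * (ga * val (conjW wA) * ga) * h⁻¹ := by rw [b]
        _ = h * ga * h⁻¹ * (h * val (conjW wA) * h⁻¹) * (h * ga * h⁻¹) := by group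
    · left
      have b : val (conjW wB) * ga = ga * val (conjW wB) := by
        simpa [val, ga] using eq_of_okEq commB_ok
      rw [e]
      conv_lhs => rw [← hc]
      conv_rhs => rw [← hc]
      calc h * val (conjW wB) * h⁻¹ * (h * ga * h⁻¹) = h * (val (conjW wB) * ga) * h⁻¹ := by group
        _ = h * (ga * val (conjW wB)) * h⁻¹ := by rw [b]
        _ = h * ga * h⁻¹ * (h * val (conjW wB) * h⁻¹) := by group

end CfsgLib.Spor.Fi22.Transp
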